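import Cfsg.Agent.H941.XZ.Fam

/-!
# `W(E₆)`-stable families of functionals on the root lattice (S4791 + S4927; helper941)

* `V27` : the 27 functionals in the orbit of `x ↦ x 0`; `V72` : the 72 coroots.
-/

set_option autoImplicit false
set_option maxRecDepth 100000

namespace Cfsg.Agent.H941.XZ.E6

open CoxeterSystem Cfsg Cfsg.Lie Cfsg.Lie.ChevalleyDatum
open Cfsg.Agent.ChevalleyStructure Cfsg.Agent.ChevalleyStructure.Elts Cfsg.Agent.ChevalleyStructure.CoxeterGeom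
  Cfsg.Agent.ChevalleyStructure.CoxeterGeomTypes Cfsg.Agent.ChevalleyStructure.NPerm
open Cfsg.Agent.Nodes.RGDChev Cfsg.Agent.H129.WData Cfsg.Agent.H267.KE

/-- the matrix of the automorphism for `d = 3` -/
def Th3 : Mat 6 := hd H267.KE.E6.chain3

/-- the matrix of the automorphism for `d = 6`, twisted -/
def Th6 : Mat 6 := ![![1, 0, 1, 1, 1, 1], ![0, 0, -1, -1, -1, 0], ![0, 1, 1, 1, 0, 0], ![0, 0, 0, 1, 1, 0], ![0, 0, 0, -1, 0, 0],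
  ![-1, -1, -1, -1, -1, 0]]

/-- the Cartan matrix -/
def Am : Mat 6 := ![![2, 0, -1, 0, 0, 0], ![0, 2, 0, -1, 0, 0], ![-1, 0, 2, -1, 0, 0], ![0, -1, -1, 2, -1, 0],
  ![0, 0, 0, -1, 2, -1], ![0, 0, 0, 0, -1, 2]]

theorem hA : ∀ i j, Am i j = cartanOf chevE6 6 i j := by decide +kernel

/-- the 27 functionals -/
def V27 : Fin 27 → Fin 6 → ℤ := ![![-1, -1, 1, 0, 0, 0],
    ![-1, 0, 0, 0, 0, 1],
    ![-1, 0, 0, 0, 1, -1],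
    ![-1, 0, 0, 1, -1, 0],
    ![-1, 0, 1, 0, 0, 0],
    ![-1, 1, 1, -1, 0, 0],
    ![0, -1, -1, 1, 0, 0],
    ![0, -1, 0, 0, 1, 0],
    ![0, -1, 0, 1, -1, 1],
    ![0, -1, 0, 1, 0, -1],
    ![0, 0, -1, 1, 0, 0],
    ![0, 0, 0, -1, 1, 0],
    ![0, 0, 0, 0, -1, 1],
    ![0, 0, 0, 0, 0, -1],
    ![0, 0, 1, -1, 0, 1],
    ![0, 0, 1, -1, 1, -1],
    ![0, 0, 1, 0, -1, 0],
    ![0, 1, -1, 0, 0, 0],
    ![0, 1, 0, -1, 1, 0],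
    ![0, 1, 0, 0, -1, 1],
    ![0, 1, 0, 0, 0, -1],
    ![1, -1, 0, 0, 0, 0],
    ![1, 0, -1, 0, 0, 1],
    ![1, 0, -1, 0, 1, -1],
    ![1, 0, -1, 1, -1, 0],
    ![1, 0, 0, 0, 0, 0],
    ![1, 1, 0, -1, 0, 0]]

/-- the permutations by the simple reflections -/
def P27 : Fin 6 → Fin 27 → Fin 27 := ![![21, 22, 23, 24, 25, 26, 6, 7, 8, 9, 10, 11, 12, 13, 14, 15, 16, 17, 18, 19, 20, 0, 1, 2, 3, 4, 5],
    ![5, 1, 2, 3, 4, 0, 17, 18, 19, 20, 10, 11, 12, 13, 14, 15, 16, 6, 7, 8, 9, 26, 22, 23, 24, 25, 21],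
    ![6, 1, 2, 3, 10, 17, 0, 7, 8, 9, 4, 11, 12, 13, 22, 23, 24, 5, 18, 19, 20, 21, 14, 15, 16, 25, 26],
    ![0, 1, 2, 5, 4, 3, 11, 7, 14, 15, 18, 6, 12, 13, 8, 9, 16, 17, 10, 19, 20, 21, 22, 23, 26, 25, 24],
    ![0, 1, 3, 2, 4, 5, 6, 8, 7, 9, 10, 12, 11, 13, 14, 16, 15, 17, 19, 18, 20, 21, 22, 24, 23, 25, 26],
    ![0, 2, 1, 3, 4, 5, 6, 7, 9, 8, 10, 11, 13, 12, 15, 14, 16, 17, 18, 20, 19, 21, 23, 22, 24, 25, 26]]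

theorem ok27 : FamOK Am V27 P27 := by decide +kernel

/-- the 72 coroots -/
def V72 : Fin 72 → Fin 6 → ℤ := ![![-2, 0, 1, 0, 0, 0],
    ![-1, -1, 0, 0, 1, 0],
    ![-1, -1, 0, 1, -1, 1],
    ![-1, -1, 0, 1, 0, -1],
    ![-1, -1, 1, 0, 0, 1],
    ![-1, -1, 1, 0, 1, -1],
    ![-1, -1, 1, 1, -1, 0],
    ![-1, 0, -1, 1, 0, 0],
    ![-1, 0, 0, 0, 1, 0],
    ![-1, 0, 0, 1, -1, 1],
    ![-1, 0, 0, 1, 0, -1],
    ![-1, 0, 1, -1, 0, 1],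
    ![-1, 0, 1, -1, 1, -1],
    ![-1, 0, 1, 0, -1, 0],
    ![-1, 0, 2, -1, 0, 0],
    ![-1, 1, 0, -1, 1, 0],
    ![-1, 1, 0, 0, -1, 1],
    ![-1, 1, 0, 0, 0, -1],
    ![-1, 1, 1, -1, 0, 1],
    ![-1, 1, 1, -1, 1, -1],
    ![-1, 1, 1, 0, -1, 0],
    ![0, -2, 0, 1, 0, 0],
    ![0, -1, -1, 1, 0, 1],
    ![0, -1, -1, 1, 1, -1],
    ![0, -1, -1, 2, -1, 0],
    ![0, -1, 0, 0, 0, 0],
    ![0, -1, 0, 1, 0, 0],
    ![0, -1, 1, -1, 1, 0],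
    ![0, -1, 1, 0, -1, 1],
    ![0, -1, 1, 0, 0, -1],
    ![0, 0, -1, 0, 0, 1],
    ![0, 0, -1, 0, 1, -1],
    ![0, 0, -1, 1, -1, 0],
    ![0, 0, 0, -1, 1, 1],
    ![0, 0, 0, -1, 2, -1],
    ![0, 0, 0, 0, -1, 2],
    ![0, 0, 0, 0, 1, -2],
    ![0, 0, 0, 1, -2, 1],
    ![0, 0, 0, 1, -1, -1],
    ![0, 0, 1, -1, 1, 0],
    ![0, 0, 1, 0, -1, 1],
    ![0, 0, 1, 0, 0, -1],
    ![0, 1, -1, 0, 0, 1],
    ![0, 1, -1, 0, 1, -1],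
    ![0, 1, -1, 1, -1, 0],
    ![0, 1, 0, -1, 0, 0],
    ![0, 1, 0, 0, 0, 0],
    ![0, 1, 1, -2, 1, 0],
    ![0, 1, 1, -1, -1, 1],
    ![0, 1, 1, -1, 0, -1],
    ![0, 2, 0, -1, 0, 0],
    ![1, -1, -1, 0, 1, 0],
    ![1, -1, -1, 1, -1, 1],
    ![1, -1, -1, 1, 0, -1],
    ![1, -1, 0, 0, 0, 1],
    ![1, -1, 0, 0, 1, -1],
    ![1, -1, 0, 1, -1, 0],
    ![1, 0, -2, 1, 0, 0],
    ![1, 0, -1, 0, 1, 0],
    ![1, 0, -1, 1, -1, 1],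
    ![1, 0, -1, 1, 0, -1],
    ![1, 0, 0, -1, 0, 1],
    ![1, 0, 0, -1, 1, -1],
    ![1, 0, 0, 0, -1, 0],
    ![1, 0, 1, -1, 0, 0],
    ![1, 1, -1, -1, 1, 0],
    ![1, 1, -1, 0, -1, 1],
    ![1, 1, -1, 0, 0, -1],
    ![1, 1, 0, -1, 0, 1],
    ![1, 1, 0, -1, 1, -1],
    ![1, 1, 0, 0, -1, 0],
    ![2, 0, -1, 0, 0, 0]]

/-- the permutations by the simple reflections -/
def P72 : Fin 6 → Fin 72 → Fin 72 := ![![71, 51, 52, 53, 54, 55, 56, 57, 58, 59, 60, 61, 62, 63, 64, 65, 66, 67, 68, 69, 70, 21, 22, 23, 24, 25, 26, 27, 28, 29, 30, 31, 32, 33, 34, 35, 36, 37, 38, 39, 40, 41, 42, 43, 44, 45, 46, 47, 48, 49, 50, 1, 2, 3, 4, 5, 6, 7, 8, 9, 10, 11, 12, 13, 14, 15, 16, 17, 18, 19, 20, 0],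
    ![0, 15, 16, 17, 18, 19, 20, 7, 8, 9, 10, 11, 12, 13, 14, 1, 2, 3, 4, 5, 6, 50, 42, 43, 44, 45, 46, 47, 48, 49, 30, 31, 32, 33, 34, 35, 36, 37, 38, 39, 40, 41, 22, 23, 24, 25, 26, 27, 28, 29, 21, 65, 66, 67, 68, 69, 70, 57, 58, 59, 60, 61, 62, 63, 64, 51, 52, 53, 54, 55, 56, 71],
    ![7, 1, 2, 3, 22, 23, 24, 0, 8, 9, 10, 30, 31, 32, 57, 15, 16, 17, 42, 43, 44, 21, 4, 5, 6, 25, 26, 51, 52, 53, 11, 12, 13, 33, 34, 35, 36, 37, 38, 58, 59, 60, 18, 19, 20, 45, 46, 65, 66, 67, 50, 27, 28, 29, 54, 55, 56, 14, 39, 40, 41, 61, 62, 63, 71, 47, 48, 49, 68, 69, 70, 64],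
    ![0, 1, 11, 12, 4, 5, 14, 15, 8, 18, 19, 2, 3, 13, 6, 7, 16, 17, 9, 10, 20, 27, 33, 34, 47, 25, 39, 21, 28, 29, 30, 31, 45, 22, 23, 35, 36, 48, 49, 26, 40, 41, 42, 43, 50, 32, 46, 24, 37, 38, 44, 51, 61, 62, 54, 55, 64, 65, 58, 68, 69, 52, 53, 63, 56, 57, 66, 67, 59, 60, 70, 71],
    ![0, 2, 1, 3, 4, 6, 5, 7, 9, 8, 10, 11, 13, 12, 14, 16, 15, 17, 18, 20, 19, 21, 22, 24, 23, 25, 26, 28, 27, 29, 30, 32, 31, 35, 37, 33, 38, 34, 36, 40, 39, 41, 42, 44, 43, 45, 46, 48, 47, 49, 50, 52, 51, 53, 54, 56, 55, 57, 59, 58, 60, 61, 63, 62, 64, 66, 65, 67, 68, 70, 69, 71],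
    ![0, 1, 3, 2, 5, 4, 6, 7, 8, 10, 9, 12, 11, 13, 14, 15, 17, 16, 19, 18, 20, 21, 23, 22, 24, 25, 26, 27, 29, 28, 31, 30, 32, 34, 33, 36, 35, 38, 37, 39, 41, 40, 43, 42, 44, 45, 46, 47, 49, 48, 50, 51, 53, 52, 55, 54, 56, 57, 58, 60, 59, 62, 61, 63, 64, 65, 67, 66, 69, 68, 70, 71]]

theorem ok72 : FamOK Am V72 P72 := by decide +kernel

/-- the powers of `q⁻¹` -/
def K3 : Fin 3 → ℤ × ℤ := ![(1, 0), (-1, -1), (0, 1)]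

/-- the powers of `q⁻¹` -/
def K6 : Fin 6 → ℤ × ℤ := ![(1, 0), (1, -1), (0, -1), (-1, 0), (-1, 1), (0, 1)]

/-- the orbit of a point, `d = 3` -/
def Y3a : Fin 3 → Fin 6 → ℤ := ![![0, 0, 0, 1, 0, 2],
    ![-1, -3, -2, -5, -4, -3],
    ![1, 3, 2, 4, 4, 1]]

theorem Y3a_ok : OrbOK Th3 Y3a := by decide +kernel

theorem Y3a_6 : fval (-1) (-1) K3 V72 Y3a 6 = (-43740, 0) := by decide +kernel

theorem Y3a_9 : fval (-1) (-1) K3 V27 Y3a 9 = (-3429216, -6858432) := by decide +kernel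

theorem Y3a_12 : fval (-1) (-1) K3 V27 Y3a 12 = (-308826270, 0) := by decide +kernel

/-- the orbit of a point, `d = 3` -/
def Y3b : Fin 3 → Fin 6 → ℤ := ![![0, 0, 1, 1, 2, 1],
    ![1, 0, 0, 1, 0, 0],
    ![-1, 0, -1, -2, -2, -1]]

theorem Y3b_ok : OrbOK Th3 Y3b := by decide +kernel

theorem Y3b_6 : fval (-1) (-1) K3 V72 Y3b 6 = (34992, 0) := by decide +kernel

theorem Y3b_9 : fval (-1) (-1) K3 V27 Y3b 9 = (122472, 244944) := by decide +kernel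

theorem Y3b_12 : fval (-1) (-1) K3 V27 Y3b 12 = (8975448, 0) := by decide +kernel

/-- the orbit of a point, `d = 6`, twisted -/
def Y6a : Fin 6 → Fin 6 → ℤ := ![![0, 0, 2, 1, 2, 2],
    ![-2, 0, 0, -1, -1, 0],
    ![-2, 0, -2, -2, -3, -2],
    ![0, 0, -2, -1, -2, -2],
    ![2, 0, 0, 1, 1, 0],
    ![2, 0, 2, 2, 3, 2]]

theorem Y6a_ok : OrbOK Th6 Y6a := by decide +kernel

theorem Y6a_6 : fval (1) (-1) K6 V72 Y6a 6 = (-2799360, 0) := by decide +kernel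

theorem Y6a_9 : fval (1) (-1) K6 V27 Y6a 9 = (-1755758592, 3511517184) := by decide +kernel

theorem Y6a_12 : fval (1) (-1) K6 V27 Y6a 12 = (-1264952401920, 0) := by decide +kernel

/-- the orbit of a point, `d = 6`, twisted -/
def Y6b : Fin 6 → Fin 6 → ℤ := ![![0, 0, 1, 0, 0, 1],
    ![-1, 0, 0, 0, -1, 0],
    ![-1, 0, -1, 0, -1, -1],
    ![0, 0, -1, 0, 0, -1],
    ![1, 0, 0, 0, 1, 0],
    ![1, 0, 1, 0, 1, 1]]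

theorem Y6b_ok : OrbOK Th6 Y6b := by decide +kernel

theorem Y6b_6 : fval (1) (-1) K6 V72 Y6b 6 = (2239488, 0) := by decide +kernel

theorem Y6b_9 : fval (1) (-1) K6 V27 Y6b 9 = (62705664, -125411328) := by decide +kernel

theorem Y6b_12 : fval (1) (-1) K6 V27 Y6b 12 = (36763435008, 0) := by decide +kernel

/-- an eigenvector, `d = 3` -/
def R3a : Fin 6 → ℤ × ℤ := ![(1, -1), (0, 0), (0, 0), (1, 2), (-1, -2), (0, 0)]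

/-- an eigenvector, `d = 3` -/
def R3b : Fin 6 → ℤ × ℤ := ![(-1, -2), (-1, -2), (-1, -2), (4, 5), (-2, -4), (1, 2)]

theorem eig3a : EigC Th3 (-1) (-1) R3a := by decide +kernel

theorem eig3b : EigC Th3 (-1) (-1) R3b := by decide +kernel

theorem reg3 : ∀ r : Fin chevE6.nroots, (0 < nrm (-1) (-1) (dotv chevE6 R3a r) ∧ nrm (-1) (-1) (dotv chevE6 R3a r) < 11) ∨
    (0 < nrm (-1) (-1) (dotv chevE6 R3b r) ∧ nrm (-1) (-1) (dotv chevE6 R3b r) < 11) := by decide +kernel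

/-- an eigenvector, `d = 6` -/
def R6a : Fin 6 → ℤ × ℤ := ![(2, -1), (0, 0), (0, 0), (0, 0), (0, 0), (-1, 2)]

/-- an eigenvector, `d = 6` -/
def R6b : Fin 6 → ℤ × ℤ := ![(1, -2), (-1, 2), (1, -2), (2, -1), (-1, 2), (-1, 2)]

theorem eig6a : EigC Th6 (1) (-1) R6a := by decide +kernel

theorem eig6b : EigC Th6 (1) (-1) R6b := by decide +kernel

theorem reg6 : ∀ r : Fin chevE6.nroots, (0 < nrm (1) (-1) (dotv chevE6 R6a r) ∧ nrm (1) (-1) (dotv chevE6 R6a r) < 11) ∨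
    (0 < nrm (1) (-1) (dotv chevE6 R6b r) ∧ nrm (1) (-1) (dotv chevE6 R6b r) < 11) := by decide +kernel

end Cfsg.Agent.H941.XZ.E6
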