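import Cfsg.Agent.H267.KE.DataE6

/-!
# Families of functionals on the root lattice and their power sums at lattice points (S4791 + S4927; helper941)

* `fn v` : the functional with coefficients `v`; `FamOK A V P` : the family `V` is permuted by the simple reflections, `P` the
  permutations; `FamOK.perm` : it is permuted by the Weyl group.
* `fval s t K V Y k` : the quadratic integer `∑_j (∑_i V_j (Y i) K i) ^ k`; `fval_ev` : its value is the value of the form of the
  engine, if `Y i = θ ^ i x` and `ev q (K i) = q⁻¹ ^ i`.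
* `li_of_points` : linear independence of `a * f ^ 2` and `a * g` by two points.
-/

set_option autoImplicit false
set_option linter.unusedSectionVars false

namespace Cfsg.Agent.H941.XZ

open CoxeterSystem Cfsg Cfsg.Lie Cfsg.Lie.ChevalleyDatum
open Cfsg.Agent.ChevalleyStructure Cfsg.Agent.ChevalleyStructure.Elts Cfsg.Agent.ChevalleyStructure.CoxeterGeom
  Cfsg.Agent.ChevalleyStructure.CoxeterGeomTypes Cfsg.Agent.ChevalleyStructure.NPerm
  Cfsg.Agent.ChevalleyStructure.RootVec
open Cfsg.Agent.Tits.Roots Cfsg.Agent.Tits.Core Cfsg.Agent.Nodes Cfsg.Agent.Nodes.Reps Cfsg.Agent.Nodes.BNOf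
  Cfsg.Agent.Nodes.RGDChev Cfsg.Agent.Nodes.Bruhat Cfsg.Agent.Nodes.SubComb Cfsg.Agent.Nodes.Coroot
open Cfsg.Agent.H129 Cfsg.Agent.H129.WData Cfsg.Agent.H210.EL Cfsg.Agent.H440.TD4 Cfsg.Agent.H267.KE

/-- the functional with coefficients `v` -/
def fn {l : ℕ} (v : Fin l → ℤ) : (Fin l → ℤ) →+ ℤ where
  toFun x := ∑ n, v n * x n
  map_zero' := by simp
  map_add' x y := by simp only [Pi.add_apply, mul_add, Finset.sum_add_distrib]

theorem fn_apply {l : ℕ} (v x : Fin l → ℤ) : fn v x = ∑ n, v n * x n := rfl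

/-- the family `V` is permuted by the simple reflections -/
def FamOK {l n : ℕ} (A : Mat l) (V : Fin n → Fin l → ℤ) (P : Fin l → Fin n → Fin n) : Prop :=
  (∀ i j, P i (P i j) = j) ∧ ∀ i j m, V (P i j) m = V j m - V j i * A i m

instance decFamOK {l n : ℕ} (A : Mat l) (V : Fin n → Fin l → ℤ) (P : Fin l → Fin n → Fin n) : Decidable (FamOK A V P) := by
  unfold FamOK; infer_instance

/-- **The family is permuted by the Weyl group.** -/
theorem FamOK.perm {D : ChevalleyDatum} {l : ℕ} {M : CoxeterMatrix (Fin l)} (hp : IsType D l M) {A : Mat l}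
    (hA : ∀ i j, A i j = cartanOf D l i j) {n : ℕ} {V : Fin n → Fin l → ℤ} {P : Fin l → Fin n → Fin n} (h : FamOK A V P)
    (w : M.Group) : ∃ π : Equiv.Perm (Fin n), ∀ j x,
      fn (V (π j)) x = fn (V j) (rep M.toCoxeterSystem hp.isCartan w x) := by
  obtain ⟨ω, rfl⟩ := M.toCoxeterSystem.wordProd_surjective w
  induction ω using List.reverseRecOn with
  | nil =>
    refine ⟨1, fun j x => ?_⟩
    rw [wordProd_nil, map_one]
    rfl
  | append_singleton ω i ih =>
    obtain ⟨π, hπ⟩ := ih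
    refine ⟨π.trans ⟨P i, P i, h.1 i, h.1 i⟩, fun j x => ?_⟩
    rw [wordProd_append, wordProd_singleton, rep_mul_apply, ← hπ j, rep_simple]
    show fn (V (P i (π j))) x = _
    rw [fn_apply, fn_apply]
    have h1 : ∀ m, CoxeterGeom.refl (cartanOf D l) i x m
        = x m - (Pi.single i (pairing (cartanOf D l) i x) : Fin l → ℤ) m := fun m => rfl
    simp only [h.2 i (π j), h1, mul_sub, sub_mul, Finset.sum_sub_distrib]
    congr 1
    have h2 : ∑ m, V (π j) m * (Pi.single i (pairing (cartanOf D l) i x) : Fin l → ℤ) m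
        = V (π j) i * pairing (cartanOf D l) i x := by
      rw [Finset.sum_eq_single i]
      · rw [Pi.single_eq_same]
      · intro b _ hb
        rw [Pi.single_eq_of_ne hb, mul_zero]
      · intro h3
        exact absurd (Finset.mem_univ i) h3
    rw [h2, pairing, Finset.mul_sum]
    exact Finset.sum_congr rfl fun m _ => by rw [hA, mul_assoc]

/-! ### values -/

/-- the value of the form -/
def fval (s t : ℤ) {d l n : ℕ} (K : Fin d → ℤ × ℤ) (V : Fin n → Fin l → ℤ) (Y : Fin d → Fin l → ℤ) (k : ℕ) : ℤ × ℤ :=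
  ∑ j : Fin n, qpow s t (∑ i : Fin d, (∑ m, V j m * Y i m) • K i) k

theorem ev_smul {p : ℕ} (x : ZMod p) (n : ℤ) (a : ℤ × ℤ) : ev x (n • a) = (n : ZMod p) * ev x a := by
  unfold ev
  rw [Prod.smul_fst, Prod.smul_snd, smul_eq_mul, smul_eq_mul]
  push_cast
  ring

theorem fval_ev {p : ℕ} {x : ZMod p} {s t : ℤ} (hx : x * x = s * x + t) {d l n : ℕ} (K : Fin d → ℤ × ℤ)
    (V : Fin n → Fin l → ℤ) (Y : Fin d → Fin l → ℤ) (k : ℕ) :
    ev x (fval s t K V Y k) = ∑ j : Fin n, (∑ i : Fin d, ((fn (V j) (Y i) : ℤ) : ZMod p) * ev x (K i)) ^ k := by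
  unfold fval
  rw [ev_sum]
  refine Finset.sum_congr rfl fun j _ => ?_
  rw [ev_pow hx, ev_sum]
  congr 1
  exact Finset.sum_congr rfl fun i _ => by rw [ev_smul, fn_apply]

/-- the orbit of a point under the lattice automorphism with matrix `Th` -/
def OrbOK {d l : ℕ} (Th : Mat l) (Y : Fin d → Fin l → ℤ) : Prop :=
  ∀ i j : Fin d, (i : ℕ) + 1 = j → ∀ m, Y j m = ∑ n, Y i n * Th n m

instance decOrbOK {d l : ℕ} (Th : Mat l) (Y : Fin d → Fin l → ℤ) : Decidable (OrbOK Th Y) := by
  unfold OrbOK; infer_instance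

theorem OrbOK.iter {d l : ℕ} {Th : Mat l} {Y : Fin d → Fin l → ℤ} (h : OrbOK Th Y) {θ : (Fin l → ℤ) →+ (Fin l → ℤ)}
    (hθ : ∀ j, θ (sr j) = Th j) (h0 : 0 < d) (i : Fin d) : θ^[(i : ℕ)] (Y ⟨0, h0⟩) = Y i := by
  obtain ⟨i, hi⟩ := i
  induction i with
  | zero => rfl
  | succ i ih =>
    rw [Function.iterate_succ_apply']
    have h1 := ih (by omega)
    change θ^[i] (Y ⟨0, h0⟩) = Y ⟨i, by omega⟩ at h1
    rw [h1]
    funext m
    rw [h ⟨i, by omega⟩ ⟨i + 1, hi⟩ rfl m, TorusChar.IsMC.eq_sum_sr (Y ⟨i, by omega⟩), map_sum, Finset.sum_apply]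
    refine Finset.sum_congr rfl fun n _ => ?_
    rw [map_zsmul, hθ, Pi.smul_apply, smul_eq_mul, ← TorusChar.IsMC.eq_sum_sr]

/-! ### linear independence by two points -/

theorem li_of_points {K X : Type*} [Field K] {a f g : X → K} {P Q : X} (haP : a P ≠ 0) (haQ : a Q ≠ 0)
    (hd : f P ^ 2 * g Q - f Q ^ 2 * g P ≠ 0) : LinearIndependent K ![a * f ^ 2, a * g] := by
  rw [LinearIndependent.pair_iff]
  intro u v h
  have hP := congrFun h P
  have hQ := congrFun h Q
  simp only [Pi.add_apply, Pi.smul_apply, Pi.mul_apply, Pi.pow_apply, smul_eq_mul, Pi.zero_apply] at hP hQ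
  have h1 : u * f P ^ 2 + v * g P = 0 := by
    have : a P * (u * f P ^ 2 + v * g P) = 0 := by linear_combination hP
    exact (mul_eq_zero.1 this).resolve_left haP
  have h2 : u * f Q ^ 2 + v * g Q = 0 := by
    have : a Q * (u * f Q ^ 2 + v * g Q) = 0 := by linear_combination hQ
    exact (mul_eq_zero.1 this).resolve_left haQ
  constructor
  · have : u * (f P ^ 2 * g Q - f Q ^ 2 * g P) = 0 := by linear_combination g Q * h1 - g P * h2
    exact (mul_eq_zero.1 this).resolve_right hd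
  · have : v * (f P ^ 2 * g Q - f Q ^ 2 * g P) = 0 := by linear_combination f P ^ 2 * h2 - f Q ^ 2 * h1
    exact (mul_eq_zero.1 this).resolve_right hd

end Cfsg.Agent.H941.XZ
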