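import Cfsg.Agent.H26.XZ.Gal
import Cfsg.Agent.H941.XZ.Fam

/-!
# Two forms of degree `p - 4` from forms of degrees 6, 9, 12 (`E₆(q)`, `d = 3`; `²E₆(q)`, `d = 6`; S4791 + S4927; helper941)

* `nr_core` : the bounds for `nr` from the values of the forms `f6`, `f9`, `f12` at two points.
-/

set_option autoImplicit false
set_option linter.unusedSectionVars false

namespace Cfsg.Agent.H941.XZ

open Cfsg
open Cfsg.Agent.Blocks Cfsg.Agent.Blocks.Local Cfsg.Agent.Characters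
open Cfsg.Agent.H674.XZ Cfsg.Agent.H603.AP Cfsg.Agent.H26.XZ Cfsg.Agent.H508.XR

universe u

theorem winv_mul {p : ℕ} [hp : Fact p.Prime] {G : Type u} [Group G] [Finite G] {P : Sylow p G} {f g : LL p P → ZMod p}
    (hf : WInv P f) (hg : WInv P g) : WInv P (f * g) := by
  intro n hn l l' h
  rw [Pi.mul_apply, Pi.mul_apply, hf n hn l l' h, hg n hn l l' h]

theorem six_dvd_sub_one {p : ℕ} (hp : p.Prime) (h11 : 11 ≤ p) (h3 : 3 ∣ p - 1) : 6 ∣ p - 1 := by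
  have h2 : ¬ 2 ∣ p := by
    intro h
    have := (Nat.prime_dvd_prime_iff_eq Nat.prime_two hp).1 h
    omega
  omega

variable {p : ℕ} [hp : Fact p.Prime] {G : Type u} [Group G] [Finite G] {M : Ideal AlgInt}

/-- **The bounds.** -/
theorem nr_core (hM : IsPModular p M) (hpG : p ∣ Nat.card G) {P : Sylow p G} (hab : ∀ x ∈ P, ∀ y ∈ P, x * y = y * x)
    (h11 : 11 ≤ p) (h3 : 3 ∣ p - 1) {f6 f9 f12 : LL p P → ZMod p} (h6 : f6 ∈ Pol p P 6) (h9 : f9 ∈ Pol p P 9)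
    (h12 : f12 ∈ Pol p P 12) (w6 : WInv P f6) (w9 : WInv P f9) (w12 : WInv P f12) {A B : LL p P}
    (a9 : f9 A ≠ 0) (b9 : f9 B ≠ 0) (a6 : f6 A ≠ 0) (b6 : f6 B ≠ 0)
    (hd : f6 A ^ 2 * f12 B - f6 B ^ 2 * f12 A ≠ 0) :
    (p = 13 → 4 ≤ nr p M G) ∧ (p = 19 → 6 ≤ nr p M G) ∧ (31 ≤ p → 2 * ((p - 1) / 3) ≤ nr p M G) := by
  refine ⟨fun h => ?_, fun h => ?_, fun h => ?_⟩
  · subst h
    exact gal_nr_one hM hpG hab (D := 9) (by norm_num) (by norm_num) (f := f9) (fun h0 => a9 (congrFun h0 A)) h9 w9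
  · subst h
    refine gal_nr_one hM hpG hab (D := 9 + 6) (by norm_num) (by norm_num) (f := f9 * f6) (fun h0 => ?_) (Pol_mul h9 h6)
      (winv_mul w9 w6)
    have h1 := congrFun h0 A
    exact mul_ne_zero a9 a6 h1
  · obtain ⟨m, hm⟩ : ∃ m : ℕ, p = 6 * m + 25 := by
      obtain ⟨k, hk⟩ := six_dvd_sub_one hp.out h11 h3
      exact ⟨k - 4, by omega⟩
    have hD : 9 + m * 6 + 2 * 6 = p - 4 := by omega
    have hD' : 9 + m * 6 + 12 = p - 4 := by omega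
    have hg : Nat.gcd (p - 4) (p - 1) = 3 := by
      have h1 : p - 4 + 3 = p - 1 := by omega
      rw [← h1, Nat.gcd_self_add_right]
      refine Nat.gcd_eq_right ?_
      omega
    have h4 := gal_nr_two (M := M) hM hpG hab (D := p - 4) (by omega) (by omega)
      (f := f9 * f6 ^ m * f6 ^ 2) (g := f9 * f6 ^ m * f12)
      (li_of_points (P := A) (Q := B) (mul_ne_zero a9 (pow_ne_zero _ a6)) (mul_ne_zero b9 (pow_ne_zero _ b6)) hd)
      (hD ▸ Pol_mul (Pol_mul h9 (Pol_pow h6 m)) (Pol_pow h6 2)) (hD' ▸ Pol_mul (Pol_mul h9 (Pol_pow h6 m)) h12)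
      (winv_mul (winv_mul w9 (w6.pow m)) (w6.pow 2)) (winv_mul (winv_mul w9 (w6.pow m)) w12)
    rwa [hg] at h4

end Cfsg.Agent.H941.XZ
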