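import Cfsg.Agent.H92.NE.Untw
import Cfsg.Agent.H941.XZ.NrCore
import Cfsg.Agent.H941.XZ.FamE6
import Cfsg.Agent.H765.KE.Ord
import Cfsg.Agent.H936.KE.TE6Data
import Cfsg.Agent.H795.RowsA
import Cfsg.Agent.H795.Tw

/-!
# Characters of `E₆(q)`, order 3, and `²E₆(q)`, order 6, which are not rational on `p`-elements (S4791 + S4927; helper941)

* `nr_E6_3` : `q` of order 3 modulo `p ≥ 11`, `S ≃* E₆(q)`: `nr ≥ 4`, `6`, `2 (p - 1) / 3` for `p = 13`, `p = 19`, `p ≥ 31`;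
* `nr_TE6_6` : the same for `S ≃* ²E₆(q)`, `q` of order 6.
* `forms_E6_3`, `forms_TE6_6` : an abelian Sylow `p`-subgroup and nonzero invariant forms of degrees 9 and 15.
-/

set_option autoImplicit false
set_option linter.unusedSectionVars false

namespace Cfsg.Agent.H941.XZ

open CoxeterSystem Cfsg Cfsg.Lie Cfsg.Lie.ChevalleyDatum
open Cfsg.Agent.ChevalleyStructure Cfsg.Agent.ChevalleyStructure.Elts Cfsg.Agent.ChevalleyStructure.CoxeterGeom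
  Cfsg.Agent.ChevalleyStructure.CoxeterGeomTypes Cfsg.Agent.ChevalleyStructure.NPerm
  Cfsg.Agent.ChevalleyStructure.RootVec
open Cfsg.Agent.Tits.Roots Cfsg.Agent.Tits.Core Cfsg.Agent.Nodes Cfsg.Agent.Nodes.Reps Cfsg.Agent.Nodes.BNOf
  Cfsg.Agent.Nodes.RGDChev Cfsg.Agent.Nodes.Bruhat Cfsg.Agent.Nodes.SubComb Cfsg.Agent.Nodes.Coroot
open Cfsg.Agent.BpExc.TorChev Cfsg.Agent.BpExc.TowChev Cfsg.Agent.BpExc.Fr Cfsg.Agent.BpExc
open Cfsg.Agent.H129.WData Cfsg.Agent.H129.TorusUntw Cfsg.Agent.H129.TorusChar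
open Cfsg.Agent.H210.EL Cfsg.Agent.H440.TD4 Cfsg.Agent.H765.KE Cfsg.Agent.H795 Cfsg.Agent.H795.Untw
  Cfsg.Agent.H795.Core Cfsg.Agent.H795.RowsA Cfsg.Agent.BpExc.RowsUntw Cfsg.Agent.H795.Reduce
open Cfsg.Agent.H267.KE Cfsg.Agent.H92.NE Cfsg.Agent.H508.XR Cfsg.Agent.H720.TwFr Cfsg.Agent.H795.Tw
open Cfsg.Agent.H603.AP hiding ev

universe u v

/-! ### the forms and their values -/

theorem evi {p : ℕ} (x : ZMod p) (n : ℤ) : ev x (n, 0) = (n : ZMod p) := by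
  unfold ev
  simp

theorem ne_of_nrm {p : ℕ} [Fact p.Prime] (h11 : 11 ≤ p) {x : ZMod p} {s t : ℤ} (hx : x * x = s * x + t) {a : ℤ × ℤ} (m : ℕ)
    (h : nrm s t a ∣ 210 ^ m) : ev x a ≠ 0 := fun h0 => smooth_ne_zero h11 m h (nrm_of_ev hx h0)

section form

variable {D : ChevalleyDatum} {l : ℕ} {M : CoxeterMatrix (Fin l)} {hp : IsType D l M} {G : Type v} [Group G] {p : ℕ}
  [Fact p.Prime] {d : ℕ} {s : ZMod p} {θ : (Fin l → ℤ) → (Fin l → ℤ)} {P : Sylow p G} {L : (Fin l → ℤ) → LL p P}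

theorem exists_form (Fo : Forms p M hp d s θ P L) {n : ℕ} {A : Mat l} (hA : ∀ i j, A i j = cartanOf D l i j)
    {V : Fin n → Fin l → ℤ} {Pm : Fin l → Fin n → Fin n} (hV : FamOK A V Pm) {Th : Mat l} {θ' : (Fin l → ℤ) →+ (Fin l → ℤ)}
    (hθ' : ∀ x, θ' x = θ x) (hTh : ∀ j, θ (sr j) = Th j) {x : ZMod p} {σ τ : ℤ} (hx : x * x = σ * x + τ)
    {K : Fin d → ℤ × ℤ} (hK : ∀ i : Fin d, ev x (K i) = s ^ (i : ℕ)) (h0 : 0 < d) (k : ℕ) :
    ∃ f ∈ Pol p P k, WInv P f ∧ ∀ Y : Fin d → Fin l → ℤ, OrbOK Th Y → f (L (Y ⟨0, h0⟩)) = ev x (fval σ τ K V Y k) := by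
  obtain ⟨f, hf, hw, hv⟩ := Fo.form (fun j => fn (V j)) (fun v _ => by
    obtain ⟨π, hπ⟩ := hV.perm hp hA v
    refine ⟨π.symm, fun j y => ?_⟩
    have h1 := hπ (π.symm j) y
    rw [Equiv.apply_symm_apply] at h1
    exact h1.symm) k
  refine ⟨f, hf, hw, fun Y hY => ?_⟩
  rw [hv, fval_ev hx]
  refine Finset.sum_congr rfl fun j _ => ?_
  congr 1
  unfold pj
  rw [Finset.sum_range]
  refine Finset.sum_congr rfl fun i _ => ?_
  have h1 : θ = θ' := funext fun y => (hθ' y).symm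
  rw [hK, h1, hY.iter (fun j => (hθ' _).trans (hTh j)) h0 i, mul_comm]

end form

/-! ### the two groups -/

variable {p : ℕ} [hpp : Fact p.Prime] {Mi : Ideal AlgInt} {S : Type v} [Group S] [Finite S]

theorem not_dvd_W (h11 : 11 ≤ p) : ¬ p ∣ Nat.card CoxeterMatrix.E₆.Group := by
  rw [card_E6]
  intro h
  have := dvd_51840 hpp.out (by omega) h
  omega

/-- the matrix of `w` -/
theorem hTh3 (j : Fin 6) :
    rep CoxeterMatrix.E₆.toCoxeterSystem e6T.isCartan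
      (CoxeterMatrix.E₆.toCoxeterSystem.wordProd (H267.KE.E6.chain3.map Prod.fst)) (sr j) = E6.Th3 j :=
  chain_rep e6T _ H267.KE.E6.hA H267.KE.E6.chainOK3 j

theorem permE_sr (ρ : Equiv.Perm (Fin 6)) (j : Fin 6) : permE ρ (sr j) = sr (ρ j) := by
  funext i
  show sr j (ρ.symm i) = sr (ρ j) i
  by_cases h : i = ρ j
  · rw [h, ρ.symm_apply_apply, sr_self, sr_self]
  · rw [sr_ne h, sr_ne]
    intro h1
    exact h (by rw [← h1, ρ.apply_symm_apply])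

theorem hTh6 (j : Fin 6) :
    rep CoxeterMatrix.E₆.toCoxeterSystem hp6.isCartan
      (CoxeterMatrix.E₆.toCoxeterSystem.wordProd (H936.KE.TE6.ch6.map Prod.fst)) (permE rho6 (sr j)) = E6.Th6 j := by
  rw [permE_sr, chain_rep hp6 _ H936.KE.TE6.hA H936.KE.TE6.ch6_ok, H936.KE.TE6.th6_eq]
  have h : ∀ j m, H936.KE.TE6.Th6 j m = E6.Th6 j m := by decide +kernel
  exact funext fun m => h j m

theorem sq3 : ∀ j m, ∑ n, E6.Th3 j n * E6.Th3 n m = - E6.Th3 j m - (if m = j then 1 else 0) := by decide +kernel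

theorem sq6 : ∀ j m, ∑ n, E6.Th6 j n * E6.Th6 n m = E6.Th6 j m - (if m = j then 1 else 0) := by decide +kernel

theorem sr_if {l : ℕ} (j m : Fin l) : (sr j : Fin l → ℤ) m = if m = j then 1 else 0 := by
  split_ifs with h
  · rw [h, sr_self]
  · rw [sr_ne h]

theorem app_mat {l : ℕ} {Th : Mat l} {θ : (Fin l → ℤ) →+ (Fin l → ℤ)} (hθ : ∀ j, θ (sr j) = Th j) (y : Fin l → ℤ) (m : Fin l) :
    θ y m = ∑ n, y n * Th n m := by
  conv_lhs => rw [IsMC.eq_sum_sr y]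
  rw [map_sum, Finset.sum_apply]
  exact Finset.sum_congr rfl fun n _ => by rw [map_zsmul, hθ, Pi.smul_apply, smul_eq_mul]

theorem iter3 {θ : (Fin 6 → ℤ) →+ (Fin 6 → ℤ)} (hθ : ∀ j, θ (sr j) = E6.Th3 j) (x : Fin 6 → ℤ) : (⇑θ)^[3] x = x := by
  have h : ∀ y, θ (θ y) = - θ y - y := by
    refine ext_sr (θ.comp θ) (- θ - AddMonoidHom.id _) fun j => ?_
    funext m
    show θ (θ (sr j)) m = - θ (sr j) m - (sr j : Fin 6 → ℤ) m
    rw [app_mat hθ, hθ, sr_if]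
    exact sq3 j m
  show θ (θ (θ x)) = x
  rw [h, h]
  abel

theorem iter6 {θ : (Fin 6 → ℤ) →+ (Fin 6 → ℤ)} (hθ : ∀ j, θ (sr j) = E6.Th6 j) (x : Fin 6 → ℤ) : (⇑θ)^[6] x = x := by
  have h : ∀ y, θ (θ y) = θ y - y := by
    refine ext_sr (θ.comp θ) (θ - AddMonoidHom.id _) fun j => ?_
    funext m
    show θ (θ (sr j)) m = θ (sr j) m - (sr j : Fin 6 → ℤ) m
    rw [app_mat hθ, hθ, sr_if]
    exact sq6 j m
  have h3 : ∀ y, θ (θ (θ y)) = - y := by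
    intro y
    rw [h, h]
    abel
  show θ (θ (θ (θ (θ (θ x))))) = x
  rw [h3, h3, _root_.neg_neg]

theorem K3_ev {x : ZMod p} (hx : x * x = ((-1 : ℤ) : ZMod p) * x + ((-1 : ℤ) : ZMod p)) (i : Fin 3) :
    ev x (E6.K3 i) = (- 1 - x) ^ (i : ℕ) := by
  push_cast at hx
  fin_cases i
  · show ((1 : ℤ) : ZMod p) + ((0 : ℤ) : ZMod p) * x = (-1 - x) ^ 0
    push_cast
    ring
  · show ((-1 : ℤ) : ZMod p) + ((-1 : ℤ) : ZMod p) * x = (-1 - x) ^ 1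
    push_cast
    ring
  · show ((0 : ℤ) : ZMod p) + ((1 : ℤ) : ZMod p) * x = (-1 - x) ^ 2
    push_cast
    linear_combination -hx

theorem K6_ev {x : ZMod p} (hx : x * x = ((1 : ℤ) : ZMod p) * x + ((-1 : ℤ) : ZMod p)) (i : Fin 6) :
    ev x (E6.K6 i) = (1 - x) ^ (i : ℕ) := by
  push_cast at hx
  have h2 : (1 - x) ^ 2 = - x := by linear_combination hx
  have h3 : (1 - x) ^ 3 = - 1 := by
    rw [pow_succ, h2]
    linear_combination hx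
  fin_cases i
  · show ((1 : ℤ) : ZMod p) + ((0 : ℤ) : ZMod p) * x = (1 - x) ^ 0
    push_cast
    ring
  · show ((1 : ℤ) : ZMod p) + ((-1 : ℤ) : ZMod p) * x = (1 - x) ^ 1
    push_cast
    ring
  · show ((0 : ℤ) : ZMod p) + ((-1 : ℤ) : ZMod p) * x = (1 - x) ^ 2
    rw [h2]
    push_cast
    ring
  · show ((-1 : ℤ) : ZMod p) + ((0 : ℤ) : ZMod p) * x = (1 - x) ^ 3
    rw [h3]
    push_cast
    ring
  · show ((-1 : ℤ) : ZMod p) + ((1 : ℤ) : ZMod p) * x = (1 - x) ^ (3 + 1)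
    rw [pow_succ, h3]
    push_cast
    ring
  · show ((0 : ℤ) : ZMod p) + ((1 : ℤ) : ZMod p) * x = (1 - x) ^ (3 + 2)
    rw [pow_add, h3, h2]
    push_cast
    ring

/-- the data: forms of degrees 6, 9, 12 and two points -/
def Data (p : ℕ) [Fact p.Prime] (S : Type v) [Group S] [Finite S] : Prop :=
  ∃ P : Sylow p S, (∀ x ∈ P, ∀ y ∈ P, x * y = y * x) ∧ p ∣ Nat.card S ∧ ∃ f6 f9 f12 : LL p P → ZMod p, f6 ∈ Pol p P 6 ∧
    f9 ∈ Pol p P 9 ∧ f12 ∈ Pol p P 12 ∧ WInv P f6 ∧ WInv P f9 ∧ WInv P f12 ∧ ∃ A B : LL p P, f9 A ≠ 0 ∧ f9 B ≠ 0 ∧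
      f6 A ≠ 0 ∧ f6 B ≠ 0 ∧ f6 A ^ 2 * f12 B - f6 B ^ 2 * f12 A ≠ 0

theorem Data.nr (h : Data p S) (hM : IsPModular p Mi) (h11 : 11 ≤ p) (h3 : 3 ∣ p - 1) :
    (p = 13 → 4 ≤ nr p Mi S) ∧ (p = 19 → 6 ≤ nr p Mi S) ∧ (31 ≤ p → 2 * ((p - 1) / 3) ≤ nr p Mi S) := by
  obtain ⟨P, hab, hdvd, f6, f9, f12, m6, m9, m12, w6, w9, w12, A, B, a9, b9, a6, b6, hd⟩ := h
  exact nr_core hM hdvd hab h11 h3 m6 m9 m12 w6 w9 w12 a9 b9 a6 b6 hd

/-- **The forms of degree 9 and 15.** -/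
theorem Data.forms (h : Data p S) : ∃ P : Sylow p S, (∀ x ∈ P, ∀ y ∈ P, x * y = y * x) ∧ p ∣ Nat.card S ∧
    (∃ f ∈ Pol p P 9, f ≠ 0 ∧ WInv P f) ∧ (∃ f ∈ Pol p P 15, f ≠ 0 ∧ WInv P f) := by
  obtain ⟨P, hab, hdvd, f6, f9, f12, m6, m9, m12, w6, w9, w12, A, B, a9, b9, a6, b6, hd⟩ := h
  have m15 : f9 * f6 ∈ Pol p P (9 + 6) := Pol_mul m9 m6
  rw [show (9 + 6 : ℕ) = 15 from rfl] at m15
  have h9 : f9 ≠ 0 := fun h0 => a9 (congrFun h0 A)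
  have h15 : f9 * f6 ≠ 0 := by
    intro h0
    have h1 := congrFun h0 A
    rw [Pi.mul_apply, Pi.zero_apply] at h1
    exact mul_ne_zero a9 a6 h1
  exact ⟨P, hab, hdvd, ⟨f9, m9, h9, w9⟩, ⟨f9 * f6, m15, h15, winv_mul w9 w6⟩⟩

/-- **`E₆(q)`, `q` of order 3.** -/
theorem data_E6_3 {r : ℕ} [hr : Fact r.Prime] {F : Type u} [Field F] [Fintype F] [CharP F r] (hrp : r ≠ p)
    (h11 : 11 ≤ p) (φ : S ≃* ↥(chevE6.group F)) (hd : orderOf ((Fintype.card F : ℕ) : ZMod p) = 3) : Data p S := by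
  have hx := sq_of_three hd
  set q : ZMod p := ((Fintype.card F : ℕ) : ZMod p) with hqdef
  have hs : q * (-1 - q) = 1 := by
    push_cast at hx
    linear_combination -hx
  set w := CoxeterMatrix.E₆.toCoxeterSystem.wordProd (H267.KE.E6.chain3.map Prod.fst) with hw
  have hLam : ∀ {C : Fin 6 → ℤ × ℤ}, EigC E6.Th3 (-1) (-1) C →
      ∀ y, lam (cv q C) (rep CoxeterMatrix.E₆.toCoxeterSystem e6T.isCartan w y) = q * lam (cv q C) y := by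
    intro C hC y
    exact mem_Lam (Q := Fintype.card F) (g := AddEquiv.refl _) e6T hTh3 hx rfl hC y
  have hval : ∀ {a : ℤ × ℤ}, (0 < nrm (-1) (-1) a ∧ nrm (-1) (-1) a < 11) → ev q a ≠ 0 := fun h h0 =>
    intCast_ne_zero h11 h.1 h.2 (nrm_of_ev hx h0)
  obtain ⟨P, L, Fo⟩ := forms_untw e6T (by norm_num) φ (cast_ne_zero hrp) (not_dvd_W h11) invC_E6 three_ne_zero
    (Or.inr Nat.prime_three) (not_dvd_small (by omega) three_ne_zero (by norm_num)) w (d := 3) (by norm_num)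
    (iter3 (θ := (rep CoxeterMatrix.E₆.toCoxeterSystem e6T.isCartan w).toAddMonoidHom) hTh3)
    (by rw [← hqdef, ← hd]; exact pow_orderOf_eq_one _) (s := -1 - q) hs (fun a ha => by
      obtain ⟨r', hr', rfl⟩ := (isRoot_iff e6T CoxeterMatrix.E₆.toCoxeterSystem a).1 ha
      rcases E6.reg3 ⟨r', hr'⟩ with h | h
      · refine ⟨cv q E6.R3a, hLam E6.eig3a, ?_⟩
        rw [lam_cv]
        exact hval h
      · refine ⟨cv q E6.R3b, hLam E6.eig3b, ?_⟩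
        rw [lam_cv]
        exact hval h)
  have key : ∀ {n : ℕ} {V : Fin n → Fin 6 → ℤ} {Pm : Fin 6 → Fin n → Fin n} (hV : FamOK E6.Am V Pm) (k : ℕ),
      ∃ f ∈ Pol p P k, WInv P f ∧ ∀ Y : Fin 3 → Fin 6 → ℤ, OrbOK E6.Th3 Y →
        f (L (Y ⟨0, by norm_num⟩)) = ev q (fval (-1) (-1) E6.K3 V Y k) := fun hV k =>
    exists_form Fo E6.hA hV (θ' := (rep CoxeterMatrix.E₆.toCoxeterSystem e6T.isCartan w).toAddMonoidHom) (fun _ => rfl) hTh3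
      hx (K3_ev hx) (by norm_num) k
  obtain ⟨f6, m6, w6, v6⟩ := key E6.ok72 6
  obtain ⟨f9, m9, w9, v9⟩ := key E6.ok27 9
  obtain ⟨f12, m12, w12, v12⟩ := key E6.ok27 12
  have a6 := v6 _ E6.Y3a_ok
  have b6 := v6 _ E6.Y3b_ok
  have a9 := v9 _ E6.Y3a_ok
  have b9 := v9 _ E6.Y3b_ok
  have a12 := v12 _ E6.Y3a_ok
  have b12 := v12 _ E6.Y3b_ok
  rw [E6.Y3a_6, evi] at a6
  rw [E6.Y3b_6, evi] at b6
  rw [E6.Y3a_9] at a9
  rw [E6.Y3b_9] at b9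
  rw [E6.Y3a_12, evi] at a12
  rw [E6.Y3b_12, evi] at b12
  refine ⟨P, Fo.ab, Fo.dvd, f6, f9, f12, m6, m9, m12, w6, w9, w12, L (E6.Y3a ⟨0, by norm_num⟩),
    L (E6.Y3b ⟨0, by norm_num⟩), ?_, ?_, ?_, ?_, ?_⟩
  · rw [a9]
    exact ne_of_nrm h11 hx 40 (by decide +kernel)
  · rw [b9]
    exact ne_of_nrm h11 hx 40 (by decide +kernel)
  · rw [a6]
    exact smooth_ne_zero h11 40 (by decide +kernel)
  · rw [b6]
    exact smooth_ne_zero h11 40 (by decide +kernel)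
  · rw [a6, b6, a12, b12]
    have h := smooth_ne_zero (p := p) h11 (n := (-43740 : ℤ) ^ 2 * 8975448 - 34992 ^ 2 * (-308826270)) 80 (by decide +kernel)
    intro h0
    apply h
    rw [← h0]
    push_cast
    ring

/-- **`²E₆(q)`, `q` of order 6.** -/
theorem data_TE6_6 {F : Type u} [Field F] [Fintype F] {q : ℕ} (h11 : 11 ≤ p) (hpF : (p : F) ≠ 0)
    (hq : IsPrimePow q) (hK : Fintype.card F = q ^ 2) (φ : S ≃* ↥(twistedE6 F q)) (hd : orderOf (q : ZMod p) = 6) :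
    Data p S := by
  obtain ⟨r, n, hr, hrF, hrk, hn0, hn, hk⟩ := exists_closure_q two_ne_zero hq hK
  have hpr : p ≠ r := by
    rintro rfl
    exact hpF (CharP.cast_eq_zero F p)
  have hset := Cfsg.Agent.H92.NE.setup_comp hp6
    (setup_six (algebraMap F (AlgebraicClosure F)) r hk hn0 hn hK (p := p) (by omega)) φ
  have hx := sq_of_six hd
  set x : ZMod p := ((q : ℕ) : ZMod p) with hxdef
  have hs : x * (1 - x) = 1 := by
    push_cast at hx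
    linear_combination -hx
  set w := CoxeterMatrix.E₆.toCoxeterSystem.wordProd (H936.KE.TE6.ch6.map Prod.fst) with hw
  have hqr : (r ^ n : ℕ) = q := hn.symm
  have hLam : ∀ {C : Fin 6 → ℤ × ℤ}, EigC E6.Th6 1 (-1) C → cv x C ∈ Lam hp6 p (r ^ n) (permE rho6) w := by
    intro C hC
    exact mem_Lam (Q := r ^ n) (g := permE rho6) hp6 hTh6 hx (by rw [hqr]) hC
  have hval : ∀ {a : ℤ × ℤ}, (0 < nrm 1 (-1) a ∧ nrm 1 (-1) a < 11) → ev x a ≠ 0 := fun h h0 =>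
    intCast_ne_zero h11 h.1 h.2 (nrm_of_ev hx h0)
  have h6 : x ^ 6 = 1 := by rw [← hd]; exact pow_orderOf_eq_one _
  obtain ⟨P, L, Fo⟩ := exists_forms (hp := hp6) hk (by norm_num) hset hpr (not_dvd_W h11) invC_E6 three_ne_zero w (d := 6)
    (by norm_num)
    (iter6 (θ := (rep CoxeterMatrix.E₆.toCoxeterSystem hp6.isCartan w).toAddMonoidHom.comp (permE rho6).toAddMonoidHom) hTh6)
    (by rw [hqr]; exact h6) (s := 1 - x) (by rw [hqr]; exact hs) (fun a ha => by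
      obtain ⟨r', hr', rfl⟩ := (isRoot_iff hp6 CoxeterMatrix.E₆.toCoxeterSystem a).1 ha
      rcases E6.reg6 ⟨r', hr'⟩ with h | h
      · refine ⟨cv x E6.R6a, hLam E6.eig6a, ?_⟩
        rw [lam_cv]
        exact hval h
      · refine ⟨cv x E6.R6b, hLam E6.eig6b, ?_⟩
        rw [lam_cv]
        exact hval h)
  have key : ∀ {n : ℕ} {V : Fin n → Fin 6 → ℤ} {Pm : Fin 6 → Fin n → Fin n} (hV : FamOK E6.Am V Pm) (k : ℕ),
      ∃ f ∈ Pol p P k, WInv P f ∧ ∀ Y : Fin 6 → Fin 6 → ℤ, OrbOK E6.Th6 Y →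
        f (L (Y ⟨0, by norm_num⟩)) = ev x (fval 1 (-1) E6.K6 V Y k) := fun hV k =>
    exists_form Fo E6.hA hV
      (θ' := (rep CoxeterMatrix.E₆.toCoxeterSystem hp6.isCartan w).toAddMonoidHom.comp (permE rho6).toAddMonoidHom)
      (fun _ => rfl) hTh6 hx (K6_ev hx) (by norm_num) k
  obtain ⟨f6, m6, w6, v6⟩ := key E6.ok72 6
  obtain ⟨f9, m9, w9, v9⟩ := key E6.ok27 9
  obtain ⟨f12, m12, w12, v12⟩ := key E6.ok27 12
  have a6 := v6 _ E6.Y6a_ok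
  have b6 := v6 _ E6.Y6b_ok
  have a9 := v9 _ E6.Y6a_ok
  have b9 := v9 _ E6.Y6b_ok
  have a12 := v12 _ E6.Y6a_ok
  have b12 := v12 _ E6.Y6b_ok
  rw [E6.Y6a_6, evi] at a6
  rw [E6.Y6b_6, evi] at b6
  rw [E6.Y6a_9] at a9
  rw [E6.Y6b_9] at b9
  rw [E6.Y6a_12, evi] at a12
  rw [E6.Y6b_12, evi] at b12
  refine ⟨P, Fo.ab, Fo.dvd, f6, f9, f12, m6, m9, m12, w6, w9, w12, L (E6.Y6a ⟨0, by norm_num⟩),
    L (E6.Y6b ⟨0, by norm_num⟩), ?_, ?_, ?_, ?_, ?_⟩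
  · rw [a9]
    exact ne_of_nrm h11 hx 60 (by decide +kernel)
  · rw [b9]
    exact ne_of_nrm h11 hx 60 (by decide +kernel)
  · rw [a6]
    exact smooth_ne_zero h11 60 (by decide +kernel)
  · rw [b6]
    exact smooth_ne_zero h11 60 (by decide +kernel)
  · rw [a6, b6, a12, b12]
    have h := smooth_ne_zero (p := p) h11
      (n := (-2799360 : ℤ) ^ 2 * 36763435008 - 2239488 ^ 2 * (-1264952401920)) 120 (by decide +kernel)
    intro h0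
    apply h
    rw [← h0]
    push_cast
    ring

/-- **`E₆(q)`, `q` of order 3: characters which are not rational on `p`-elements.** -/
theorem nr_E6_3 {r : ℕ} [hr : Fact r.Prime] {F : Type u} [Field F] [Fintype F] [CharP F r] (hM : IsPModular p Mi) (hrp : r ≠ p)
    (h11 : 11 ≤ p) (φ : S ≃* ↥(chevE6.group F)) (hd : orderOf ((Fintype.card F : ℕ) : ZMod p) = 3) :
    (p = 13 → 4 ≤ nr p Mi S) ∧ (p = 19 → 6 ≤ nr p Mi S) ∧ (31 ≤ p → 2 * ((p - 1) / 3) ≤ nr p Mi S) :=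
  (data_E6_3 hrp h11 φ hd).nr hM h11 (dvd_sub_one (by norm_num) hd)

/-- **`²E₆(q)`, `q` of order 6: characters which are not rational on `p`-elements.** -/
theorem nr_TE6_6 {F : Type u} [Field F] [Fintype F] {q : ℕ} (hM : IsPModular p Mi) (h11 : 11 ≤ p) (hpF : (p : F) ≠ 0)
    (hq : IsPrimePow q) (hK : Fintype.card F = q ^ 2) (φ : S ≃* ↥(twistedE6 F q)) (hd : orderOf (q : ZMod p) = 6) :
    (p = 13 → 4 ≤ nr p Mi S) ∧ (p = 19 → 6 ≤ nr p Mi S) ∧ (31 ≤ p → 2 * ((p - 1) / 3) ≤ nr p Mi S) :=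
  (data_TE6_6 h11 hpF hq hK φ hd).nr hM h11 ((show 3 ∣ 6 by norm_num).trans (dvd_sub_one (by norm_num) hd))

/-- **`E₆(q)`, `q` of order 3: the forms.** -/
theorem forms_E6_3 {r : ℕ} [hr : Fact r.Prime] {F : Type u} [Field F] [Fintype F] [CharP F r] (hrp : r ≠ p)
    (h11 : 11 ≤ p) (φ : S ≃* ↥(chevE6.group F)) (hd : orderOf ((Fintype.card F : ℕ) : ZMod p) = 3) :
    ∃ P : Sylow p S, (∀ x ∈ P, ∀ y ∈ P, x * y = y * x) ∧ p ∣ Nat.card S ∧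
      (∃ f ∈ Pol p P 9, f ≠ 0 ∧ WInv P f) ∧ (∃ f ∈ Pol p P 15, f ≠ 0 ∧ WInv P f) :=
  (data_E6_3 hrp h11 φ hd).forms

/-- **`²E₆(q)`, `q` of order 6: the forms.** -/
theorem forms_TE6_6 {F : Type u} [Field F] [Fintype F] {q : ℕ} (h11 : 11 ≤ p) (hpF : (p : F) ≠ 0)
    (hq : IsPrimePow q) (hK : Fintype.card F = q ^ 2) (φ : S ≃* ↥(twistedE6 F q)) (hd : orderOf (q : ZMod p) = 6) :
    ∃ P : Sylow p S, (∀ x ∈ P, ∀ y ∈ P, x * y = y * x) ∧ p ∣ Nat.card S ∧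
      (∃ f ∈ Pol p P 9, f ≠ 0 ∧ WInv P f) ∧ (∃ f ∈ Pol p P 15, f ≠ 0 ∧ WInv P f) :=
  (data_TE6_6 h11 hpF hq hK φ hd).forms

end Cfsg.Agent.H941.XZ
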