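import Cfsg.Agent.H134.StrP.Tab

/-!
# The maximal parabolic subgroups of `E₆(q)`, `q` of order 3 or 6 modulo `p` (S4791 + S4927; helper941)

* `dvd_idx_E6` : `p` divides the index of every maximal parabolic subgroup.
-/

set_option autoImplicit false
set_option linter.unusedSectionVars false

namespace Cfsg.Agent.H941.XZ.Idx

open CoxeterSystem Cfsg.Agent.ChevalleyStructure.CoxeterGeom Cfsg.Agent.ChevalleyStructure.CoxeterGeomTypes
  Cfsg.Agent.Tits.Roots Cfsg.Agent.Tits.Core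
  Cfsg.Agent.Nodes.Reps Cfsg.Agent.Nodes.BNOf Cfsg.Agent.Nodes.StabComb Cfsg.Agent.Nodes.Bruhat
  Cfsg.Agent.Nodes.LeviDec Cfsg.Agent.H35.ExcIdx Cfsg.Agent.H35.PoinNum Cfsg.Agent.H134.StrP
open Cfsg.Lie Cfsg.Agent.Nodes.RGDChev Cfsg.Agent.ChevalleyStructure.Elts

universe u

theorem tab_D5 : Tab (cartanOf chevE6 6) [0, 1, 2, 3, 4] 0 [(![1, 0, 0, 0, 0, 0], 0), (![-1, 0, 1, 0, 0, 0], 1),
    (![0, 0, -1, 1, 0, 0], 2), (![0, 1, 0, -1, 1, 0], 3), (![0, -1, 0, 0, 1, 0], 4), (![0, 1, 0, 0, -1, 1], 4),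
    (![0, -1, 0, 1, -1, 1], 5), (![0, 0, 1, -1, 0, 1], 6), (![1, 0, -1, 0, 0, 1], 7), (![-1, 0, 0, 0, 0, 1], 8)] :=
  Tab.of_check (by decide +kernel)

theorem tab_D5' : Tab (cartanOf chevE6 6) [1, 2, 3, 4, 5] 5 [(![0, 0, 0, 0, 0, 1], 0), (![0, 0, 0, 0, 1, -1], 1),
    (![0, 0, 0, 1, -1, 0], 2), (![0, 1, 1, -1, 0, 0], 3), (![0, -1, 1, 0, 0, 0], 4), (![1, 1, -1, 0, 0, 0], 4),
    (![1, -1, -1, 1, 0, 0], 5), (![1, 0, 0, -1, 1, 0], 6), (![1, 0, 0, 0, -1, 1], 7), (![1, 0, 0, 0, 0, -1], 8)] :=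
  Tab.of_check (by decide +kernel)

theorem tab_D4 : Tab (cartanOf chevE6 6) [1, 2, 3, 4] 4 [(![0, 0, 0, 0, 1, 0], 0), (![0, 0, 0, 1, -1, 1], 1),
    (![0, 1, 1, -1, 0, 1], 2), (![0, -1, 1, 0, 0, 1], 3), (![1, 1, -1, 0, 0, 1], 3), (![1, -1, -1, 1, 0, 1], 4),
    (![1, 0, 0, -1, 1, 1], 5), (![1, 0, 0, 0, -1, 2], 6)] :=
  Tab.of_check (by decide +kernel)

theorem path_A3 : PathOK CoxeterMatrix.E₆ [1, 2, 3] [1, 3, 2] [] 1 := by constructor <;> decide +kernel
theorem path_A5 : PathOK CoxeterMatrix.E₆ [0, 2, 3, 4, 5] [0, 2, 3, 4, 5] [] 0 := by constructor <;> decide +kernel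
theorem path_A4 : PathOK CoxeterMatrix.E₆ [0, 1, 3, 4, 5] [1, 3, 4, 5] [0] 1 := by constructor <;> decide +kernel
theorem path_A1 : PathOK CoxeterMatrix.E₆ [0] [0] [] 0 := by constructor <;> decide +kernel
theorem path_A4' : PathOK CoxeterMatrix.E₆ [0, 1, 2, 3, 5] [0, 2, 3, 1] [5] 0 := by constructor <;> decide +kernel
theorem path_A1' : PathOK CoxeterMatrix.E₆ [5] [5] [] 5 := by constructor <;> decide +kernel
theorem path_A2 : PathOK CoxeterMatrix.E₆ [0, 1, 2, 4, 5] [0, 2] [1, 4, 5] 0 := by constructor <;> decide +kernel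
theorem path_A2' : PathOK CoxeterMatrix.E₆ [1, 4, 5] [4, 5] [1] 4 := by constructor <;> decide +kernel
theorem path_A1'' : PathOK CoxeterMatrix.E₆ [1] [1] [] 1 := by constructor <;> decide +kernel

section

variable {K : Type u} [Field K] [Fintype K]

/-- the index of a parabolic subgroup -/
noncomputable abbrev ix (K : Type u) [Field K] (J : Set (Fin 6)) : ℕ :=
  (PJ CoxeterMatrix.E₆.toCoxeterSystem hpE6.isCartan (TT chevE6 K) (XX chevE6 6 K) J).index

/-- the equation of the index -/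
theorem idx_eq {J : Set (Fin 6)} {N : ℕ}
    (hN : Nat.card ↥(PJ CoxeterMatrix.E₆.toCoxeterSystem hpE6.isCartan (TT chevE6 K) (XX chevE6 6 K) J) =
      N * Nat.card ↥(RGD.B CoxeterMatrix.E₆.toCoxeterSystem hpE6.isCartan (TT chevE6 K) (XX chevE6 6 K))) :
    (ix K J : ℤ) * (N * ((Fintype.card K : ℤ) - 1) ^ 6) = ((Fintype.card K : ℤ) ^ 2 - 1) * ((Fintype.card K : ℤ) ^ 5 - 1) *
      ((Fintype.card K : ℤ) ^ 6 - 1) * ((Fintype.card K : ℤ) ^ 8 - 1) * ((Fintype.card K : ℤ) ^ 9 - 1) *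
      ((Fintype.card K : ℤ) ^ 12 - 1) := by
  obtain ⟨r, hr⟩ := CharP.exists K
  have hrp : r.Prime := CharP.char_is_prime K r
  have : Fact r.Prime := ⟨hrp⟩
  obtain ⟨f, -, hK⟩ := FiniteField.card K r
  have hf : (f : ℕ) ≠ 0 := f.pos.ne'
  have hq1 : 1 ≤ Fintype.card K := Fintype.card_pos
  have hord : ∃ b, Nat.gcd 3 (r ^ (f : ℕ) - 1) * Nat.card (chevE6.group K) = r ^ b * pr (r ^ (f : ℕ)) [2, 5, 6, 8, 9, 12] := by
    refine ⟨f * 36, ?_⟩
    have h3 := Cfsg.Agent.S1063.result hK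
    rw [pow_mul]
    simp only [pr_cons, pr_nil]
    rw [h3]
    ring
  have h1 := index_split hpE6 K hrp hf hK CoxeterMatrix.E₆.toCoxeterSystem (d := Nat.gcd 3 (r ^ (f : ℕ) - 1)) (N := N)
    (P := pr (r ^ (f : ℕ)) [2, 5, 6, 8, 9, 12]) (not_dvd_of_dvd hrp hf (Nat.gcd_dvd_right _ _))
    (by rw [← hK]; exact Cfsg.Agent.S1035.result rfl (chevE6, Nat.gcd 3 (Fintype.card K - 1)) (by simp))
    hord (not_dvd_pr hrp hf _ (by simp)) hN
  rw [← hK] at h1
  have h2 : ∀ i : ℕ, ((Fintype.card K ^ i - 1 : ℕ) : ℤ) = (Fintype.card K : ℤ) ^ i - 1 := fun i => by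
    rw [Nat.cast_sub (Nat.one_le_pow _ _ hq1), Nat.cast_pow, Nat.cast_one]
  have h3 := congrArg (Nat.cast (R := ℤ)) h1
  simp only [pr_cons, pr_nil, Nat.cast_mul, Nat.cast_pow, h2, mul_one] at h3
  rw [Nat.cast_sub hq1, Nat.cast_one] at h3
  linear_combination h3

theorem size_XX (i : Fin 6) : Nat.card (XX chevE6 6 K (sr i)) = Fintype.card K := by
  rw [card_XX hpE6 K CoxeterMatrix.E₆.toCoxeterSystem (isRoot_sr _ _ i), Nat.card_eq_fintype_card]

theorem two_le_card : 2 ≤ Fintype.card K := Fintype.one_lt_card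

/-- cancellation -/
theorem cancel {i A B C N R : ℤ} (h : i * N = R) (hN : N = A * C) (hR : R = B * C) (hC : C ≠ 0) : i * A = B := by
  have h1 : (i * A - B) * C = 0 := by
    rw [hN, hR] at h
    linear_combination h
  rcases mul_eq_zero.1 h1 with h2 | h2
  · exact sub_eq_zero.1 h2
  · exact absurd h2 hC

theorem pos_sub {q : ℤ} (hq : 2 ≤ q) {n : ℕ} (hn : n ≠ 0) : q ^ n - 1 ≠ 0 := by
  have h : 1 < q ^ n := one_lt_pow₀ (by omega) hn
  omega

/-- the index, type `D₅` -/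
theorem idx5 {J : Set (Fin 6)} (hJ : J = {j | j ∈ ([0, 1, 2, 3, 4] : List (Fin 6))} ∨ J = {j | j ∈ ([1, 2, 3, 4, 5] : List (Fin 6))}) :
    (ix K J : ℤ) * (((Fintype.card K : ℤ) - 1) * ((Fintype.card K : ℤ) ^ 4 - 1)) =
      ((Fintype.card K : ℤ) ^ 9 - 1) * ((Fintype.card K : ℤ) ^ 12 - 1) := by
  obtain ⟨l, hl⟩ := CharP.exists K
  have : Fact l.Prime := ⟨CharP.char_is_prime K l⟩
  have := finite_W hpE6 CoxeterMatrix.E₆.toCoxeterSystem
  have R := rgd (K := K) hpE6 CoxeterMatrix.E₆.toCoxeterSystem l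
  have h1 := card_step R path_A3 (y := Fintype.card K) (fun i _ => size_XX i) (card_nil R)
  have h2 := card_tab_step R tab_D4 (y := Fintype.card K) (fun i _ => size_XX i) (J' := [1, 2, 3]) (by decide) h1
  have hq : (2 : ℤ) ≤ Fintype.card K := by exact_mod_cast two_le_card
  have hC : ((Fintype.card K : ℤ) ^ 2 - 1) * ((Fintype.card K : ℤ) ^ 5 - 1) * ((Fintype.card K : ℤ) ^ 6 - 1) *
      ((Fintype.card K : ℤ) ^ 8 - 1) ≠ 0 :=
    mul_ne_zero (mul_ne_zero (mul_ne_zero (pos_sub hq (by norm_num)) (pos_sub hq (by norm_num))) (pos_sub hq (by norm_num)))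
      (pos_sub hq (by norm_num))
  rcases hJ with rfl | rfl
  · have h3 := card_tab_step R tab_D5 (y := Fintype.card K) (fun i _ => size_XX i) (J' := [1, 2, 3, 4]) (by decide) h2
    refine cancel (idx_eq h3) ?_ ?_ hC
    · simp only [List.map_cons, List.map_nil, List.sum_cons, List.sum_nil, List.length_cons, List.length_nil, FA,
        Finset.prod_range_succ, Finset.prod_range_zero, Finset.sum_range_succ, Finset.sum_range_zero]
      push_cast
      ring
    · ring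
  · have h3 := card_tab_step R tab_D5' (y := Fintype.card K) (fun i _ => size_XX i) (J' := [1, 2, 3, 4]) (by decide) h2
    refine cancel (idx_eq h3) ?_ ?_ hC
    · simp only [List.map_cons, List.map_nil, List.sum_cons, List.sum_nil, List.length_cons, List.length_nil, FA,
        Finset.prod_range_succ, Finset.prod_range_zero, Finset.sum_range_succ, Finset.sum_range_zero]
      push_cast
      ring
    · ring

/-- the index, type `A₅` -/
theorem idx1 : (ix K {j | j ∈ ([0, 2, 3, 4, 5] : List (Fin 6))} : ℤ) * (((Fintype.card K : ℤ) - 1) * ((Fintype.card K : ℤ) ^ 4 - 1)) =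
      ((Fintype.card K : ℤ) ^ 8 - 1) * ((Fintype.card K : ℤ) ^ 6 + (Fintype.card K : ℤ) ^ 3 + 1) *
        ((Fintype.card K : ℤ) ^ 12 - 1) := by
  obtain ⟨l, hl⟩ := CharP.exists K
  have : Fact l.Prime := ⟨CharP.char_is_prime K l⟩
  have := finite_W hpE6 CoxeterMatrix.E₆.toCoxeterSystem
  have R := rgd (K := K) hpE6 CoxeterMatrix.E₆.toCoxeterSystem l
  have h1 := card_step R path_A5 (y := Fintype.card K) (fun i _ => size_XX i) (card_nil R)
  have hq : (2 : ℤ) ≤ Fintype.card K := by exact_mod_cast two_le_card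
  refine cancel (C := ((Fintype.card K : ℤ) ^ 2 - 1) * ((Fintype.card K : ℤ) ^ 5 - 1) * ((Fintype.card K : ℤ) ^ 6 - 1) *
      ((Fintype.card K : ℤ) ^ 3 - 1)) (idx_eq h1) ?_ ?_ ?_
  · simp only [List.length_cons, List.length_nil, FA,
      Finset.prod_range_succ, Finset.prod_range_zero, Finset.sum_range_succ, Finset.sum_range_zero]
    push_cast
    ring
  · ring
  · exact mul_ne_zero (mul_ne_zero (mul_ne_zero (pos_sub hq (by norm_num)) (pos_sub hq (by norm_num))) (pos_sub hq (by norm_num)))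
      (pos_sub hq (by norm_num))

/-- the index, type `A₄ A₁` -/
theorem idx2 {J : Set (Fin 6)} (hJ : J = {j | j ∈ ([0, 1, 3, 4, 5] : List (Fin 6))} ∨ J = {j | j ∈ ([0, 1, 2, 3, 5] : List (Fin 6))}) :
    (ix K J : ℤ) * (((Fintype.card K : ℤ) - 1) * ((Fintype.card K : ℤ) ^ 2 - 1) * ((Fintype.card K : ℤ) ^ 4 - 1)) =
      ((Fintype.card K : ℤ) ^ 3 + 1) * ((Fintype.card K : ℤ) ^ 8 - 1) * ((Fintype.card K : ℤ) ^ 9 - 1) *
        ((Fintype.card K : ℤ) ^ 12 - 1) := by
  obtain ⟨l, hl⟩ := CharP.exists K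
  have : Fact l.Prime := ⟨CharP.char_is_prime K l⟩
  have := finite_W hpE6 CoxeterMatrix.E₆.toCoxeterSystem
  have R := rgd (K := K) hpE6 CoxeterMatrix.E₆.toCoxeterSystem l
  have hq : (2 : ℤ) ≤ Fintype.card K := by exact_mod_cast two_le_card
  have hC : ((Fintype.card K : ℤ) ^ 2 - 1) * ((Fintype.card K : ℤ) ^ 5 - 1) * ((Fintype.card K : ℤ) ^ 3 - 1) ≠ 0 :=
    mul_ne_zero (mul_ne_zero (pos_sub hq (by norm_num)) (pos_sub hq (by norm_num))) (pos_sub hq (by norm_num))
  rcases hJ with rfl | rfl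
  · have h1 := card_step R path_A4 (y := Fintype.card K) (fun i _ => size_XX i)
      (card_step R path_A1 (y := Fintype.card K) (fun i _ => size_XX i) (card_nil R))
    refine cancel (idx_eq h1) ?_ ?_ hC
    · simp only [List.length_cons, List.length_nil, FA,
        Finset.prod_range_succ, Finset.prod_range_zero, Finset.sum_range_succ, Finset.sum_range_zero]
      push_cast
      ring
    · ring
  · have h1 := card_step R path_A4' (y := Fintype.card K) (fun i _ => size_XX i)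
      (card_step R path_A1' (y := Fintype.card K) (fun i _ => size_XX i) (card_nil R))
    refine cancel (idx_eq h1) ?_ ?_ hC
    · simp only [List.length_cons, List.length_nil, FA,
        Finset.prod_range_succ, Finset.prod_range_zero, Finset.sum_range_succ, Finset.sum_range_zero]
      push_cast
      ring
    · ring

/-- the index, type `A₂ A₁ A₂` -/
theorem idx3 : (ix K {j | j ∈ ([0, 1, 2, 4, 5] : List (Fin 6))} : ℤ) *
      (((Fintype.card K : ℤ) - 1) * ((Fintype.card K : ℤ) ^ 2 - 1) ^ 2) =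
      ((Fintype.card K : ℤ) ^ 5 - 1) * ((Fintype.card K : ℤ) ^ 3 + 1) * ((Fintype.card K : ℤ) ^ 8 - 1) *
        ((Fintype.card K : ℤ) ^ 6 + (Fintype.card K : ℤ) ^ 3 + 1) * ((Fintype.card K : ℤ) ^ 12 - 1) := by
  obtain ⟨l, hl⟩ := CharP.exists K
  have : Fact l.Prime := ⟨CharP.char_is_prime K l⟩
  have := finite_W hpE6 CoxeterMatrix.E₆.toCoxeterSystem
  have R := rgd (K := K) hpE6 CoxeterMatrix.E₆.toCoxeterSystem l
  have h1 := card_step R path_A2 (y := Fintype.card K) (fun i _ => size_XX i)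
    (card_step R path_A2' (y := Fintype.card K) (fun i _ => size_XX i)
      (card_step R path_A1'' (y := Fintype.card K) (fun i _ => size_XX i) (card_nil R)))
  have hq : (2 : ℤ) ≤ Fintype.card K := by exact_mod_cast two_le_card
  refine cancel (C := ((Fintype.card K : ℤ) ^ 2 - 1) * ((Fintype.card K : ℤ) ^ 3 - 1) ^ 2) (idx_eq h1) ?_ ?_ ?_
  · simp only [List.length_cons, List.length_nil, FA,
      Finset.prod_range_succ, Finset.prod_range_zero, Finset.sum_range_succ, Finset.sum_range_zero]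
    push_cast
    ring
  · ring
  · exact mul_ne_zero (pos_sub hq (by norm_num)) (pow_ne_zero _ (pos_sub hq (by norm_num)))

end

section

variable {p : ℕ} [hp : Fact p.Prime] {K : Type u} [Field K] [Fintype K]

/-- the powers of `q` -/
theorem pow_ne {y : ZMod p} (h : orderOf y = 3 ∨ orderOf y = 6) {n : ℕ} (hn : n = 1 ∨ n = 2 ∨ n = 4) : y ^ n - 1 ≠ 0 := by
  intro h1
  have h2 := orderOf_dvd_of_pow_eq_one (sub_eq_zero.1 h1)
  rcases h with h | h <;> rcases hn with rfl | rfl | rfl <;> rw [h] at h2 <;> omega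

theorem pow_twelve {y : ZMod p} (h : orderOf y = 3 ∨ orderOf y = 6) : y ^ 12 - 1 = 0 := by
  rw [sub_eq_zero]
  refine orderOf_dvd_iff_pow_eq_one.1 ?_
  rcases h with h | h <;> rw [h] <;> norm_num

/-- **`p` divides the index of every maximal parabolic subgroup.** -/
theorem dvd_idx_E6 (hd : orderOf ((Fintype.card K : ℕ) : ZMod p) = 3 ∨ orderOf ((Fintype.card K : ℕ) : ZMod p) = 6) (k : Fin 6) :
    p ∣ (PJ CoxeterMatrix.E₆.toCoxeterSystem hpE6.isCartan (TT chevE6 K) (XX chevE6 6 K) ({k}ᶜ : Set (Fin 6))).index := by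
  change p ∣ ix K ({k}ᶜ : Set (Fin 6))
  rw [← CharP.cast_eq_zero_iff (ZMod p) p]
  have h1 := pow_ne hd (n := 1) (Or.inl rfl)
  have h2 := pow_ne hd (n := 2) (Or.inr (Or.inl rfl))
  have h4 := pow_ne hd (n := 4) (Or.inr (Or.inr rfl))
  have h12 := pow_twelve hd
  rw [pow_one] at h1
  set y : ZMod p := ((Fintype.card K : ℕ) : ZMod p) with hy
  have key : ∀ {J : Set (Fin 6)} {A B : ℤ}, (ix K J : ℤ) * A = B → (A : ZMod p) ≠ 0 → (B : ZMod p) = 0 →
      ((ix K J : ℕ) : ZMod p) = 0 := by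
    intro J A B h hA hB
    have h5 := congrArg (Int.cast (R := ZMod p)) h
    rw [Int.cast_mul, hB, Int.cast_natCast] at h5
    exact (mul_eq_zero.1 h5).resolve_right hA
  rcases (show k = 0 ∨ k = 1 ∨ k = 2 ∨ k = 3 ∨ k = 4 ∨ k = 5 by revert k; decide) with rfl | rfl | rfl | rfl | rfl | rfl
  · refine key (idx5 (Or.inr (by ext j; revert j; decide))) ?_ ?_
    · push_cast
      exact mul_ne_zero h1 h4
    · push_cast
      rw [h12, mul_zero]
  · have hJ : ({1}ᶜ : Set (Fin 6)) = {j | j ∈ ([0, 2, 3, 4, 5] : List (Fin 6))} := by ext j; revert j; decide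
    rw [hJ]
    refine key idx1 ?_ ?_
    · push_cast
      exact mul_ne_zero h1 h4
    · push_cast
      rw [h12, mul_zero]
  · refine key (idx2 (Or.inl (by ext j; revert j; decide))) ?_ ?_
    · push_cast
      exact mul_ne_zero (mul_ne_zero h1 h2) h4
    · push_cast
      rw [h12, mul_zero]
  · have hJ : ({3}ᶜ : Set (Fin 6)) = {j | j ∈ ([0, 1, 2, 4, 5] : List (Fin 6))} := by ext j; revert j; decide
    rw [hJ]
    refine key idx3 ?_ ?_
    · push_cast
      exact mul_ne_zero h1 (pow_ne_zero _ h2)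
    · push_cast
      rw [h12, mul_zero]
  · refine key (idx2 (Or.inr (by ext j; revert j; decide))) ?_ ?_
    · push_cast
      exact mul_ne_zero (mul_ne_zero h1 h2) h4
    · push_cast
      rw [h12, mul_zero]
  · refine key (idx5 (Or.inl (by ext j; revert j; decide))) ?_ ?_
    · push_cast
      exact mul_ne_zero h1 h4
    · push_cast
      rw [h12, mul_zero]

end

end Cfsg.Agent.H941.XZ.Idx
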